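import Groth.Agent.Tors73.Structure
import Groth.Agent.AbDeg57.RankPow
import Groth.Agent.S7795
import Groth.Agent.Grp57.PowEtale
import Groth.Agent.Hopf35.EtaleIsogenyGalois
import Groth.Prelude.Def_AbDual

/-!
The torsion points of an abelian variety over an algebraically closed field, away from the characteristic.
-/

set_option autoImplicit false
set_option backward.isDefEq.respectTransparency.types false
universe u

open CategoryTheory CategoryTheory.Limits MonoidalCategory CartesianMonoidalCategory MonObj AlgebraicGeometry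

noncomputable section

namespace Groth.Agent.Tors73

variable {K : Type u} [Field K] [IsAlgClosed K] (A : Over (Spec (CommRingCat.of K))) [GrpObj A] [IsCommMonObj A]
  [IsProper A.hom] [GeometricallyIntegral A.hom]

omit [IsAlgClosed K] [IsProper A.hom] [GeometricallyIntegral A.hom] in
theorem isMonHom_pow (n : ℕ) : IsMonHom (𝟙 A ^ n : A ⟶ A) where
  one_hom := by rw [MonObj.comp_pow, Category.comp_id, MonObj.one_eq_one, one_pow]
  mul_hom := by
    rw [MonObj.comp_pow, Category.comp_id, MonObj.mul_eq_mul, MonObj.comp_mul, tensorHom_fst, tensorHom_snd,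
      MonObj.comp_pow, MonObj.comp_pow, Category.comp_id, Category.comp_id, mul_pow]

theorem card_torsPts (g : ℕ) (hg : topologicalKrullDim A.left = g) (n : ℕ) (hn : (n : K) ≠ 0) :
    Nat.card (AbDual.torsPts A n (𝟙_ (Over (Spec (CommRingCat.of K))))) = n ^ (2 * g) := by
  have hn1 : 1 ≤ n := Nat.one_le_iff_ne_zero.2 fun h => hn (by rw [h, Nat.cast_zero])
  have : Flat A.hom := inferInstance
  have : LocallyOfFinitePresentation A.hom := inferInstance
  have : GeometricallyReduced A.hom := inferInstance
  have : Smooth A.hom := Groth.Agent.S7795.result A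
  have := isMonHom_pow A n
  have : IsFinite (𝟙 A ^ n : A ⟶ A).left := AbDeg57.isFinite_pow n hn1
  have : Etale (𝟙 A ^ n : A ⟶ A).left := by
    have h := Grp57.etale_zpow A (n : ℤ) (by exact_mod_cast hn)
    rwa [zpow_natCast] at h
  have : IsLocallyNoetherian A.left := LocallyOfFiniteType.isLocallyNoetherian A.hom
  have h := Hopf35.EtaleIsogenyGalois.finrank_eq_card (𝟙 A ^ n : A ⟶ A)
  rw [AbDeg57.finrank_pow g hg n hn1] at h
  rw [h]
  refine Nat.card_congr (Equiv.subtypeEquivRight fun P => ?_)
  rw [AbDual.mem_torsPts, MonObj.comp_pow, Category.comp_id, MonObj.one_eq_one]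

theorem nonempty_torsPts_mulEquiv (g : ℕ) (hg : topologicalKrullDim A.left = g) (n : ℕ) (hn : (n : K) ≠ 0) :
    Nonempty (AbDual.torsPts A n (𝟙_ (Over (Spec (CommRingCat.of K)))) ≃* Multiplicative (Fin (2 * g) → ZMod n)) := by
  set P := 𝟙_ (Over (Spec (CommRingCat.of K)))
  have hn0 : n ≠ 0 := fun h => hn (by rw [h, Nat.cast_zero])
  have hcard := card_torsPts A g hg n hn
  have : Finite (AbDual.torsPts A n P) :=
    Nat.finite_of_card_ne_zero (by rw [hcard]; exact pow_ne_zero _ hn0)
  let G := Additive (AbDual.torsPts A n P)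
  have hexp : ∀ x : G, n • x = 0 := fun x => by
    apply Additive.toMul.injective
    exact Subtype.ext ((AbDual.mem_torsPts A x.toMul.1).1 x.toMul.2)
  have hp : ∀ p : ℕ, p.Prime → Nat.card {x : G // p • x = 0} ≤ p ^ (2 * g) := by
    intro p hp
    by_cases hdvd : p ∣ n
    · have hpK : (p : K) ≠ 0 := fun h => hn (by
        obtain ⟨m, rfl⟩ := hdvd
        rw [Nat.cast_mul, h, zero_mul])
      have : Finite (AbDual.torsPts A p P) :=
        Nat.finite_of_card_ne_zero (by rw [card_torsPts A g hg p hpK]; exact pow_ne_zero _ hp.ne_zero)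
      rw [← card_torsPts A g hg p hpK]
      refine Nat.card_le_card_of_injective (fun x : {x : G // p • x = 0} =>
        (⟨x.1.toMul.1, (AbDual.mem_torsPts A _).2 (congrArg (fun y : G => y.toMul.1) x.2)⟩ :
          AbDual.torsPts A p P)) fun x y h => Subtype.ext (Additive.toMul.injective (Subtype.ext ?_))
      exact congrArg (fun z : AbDual.torsPts A p P => (z : P ⟶ A)) h
    · have h1 : ∀ x : {x : G // p • x = 0}, x.1 = 0 := fun x => by
        have hc : Nat.Coprime p n := (Nat.Prime.coprime_iff_not_dvd hp).2 hdvd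
        have h2 := Nat.dvd_gcd (addOrderOf_dvd_iff_nsmul_eq_zero.2 x.2) (addOrderOf_dvd_iff_nsmul_eq_zero.2 (hexp x.1))
        rw [hc.gcd_eq_one, Nat.dvd_one, AddMonoid.addOrderOf_eq_one_iff] at h2
        exact h2
      have : Subsingleton {x : G // p • x = 0} := ⟨fun x y => Subtype.ext ((h1 x).trans (h1 y).symm)⟩
      exact (Finite.card_le_one_iff_subsingleton.2 this).trans (Nat.one_le_pow _ _ hp.pos)
  obtain ⟨e⟩ := addEquiv_of_card_torsion hn0 hexp ((Nat.card_congr Additive.toMul).trans hcard) hp
  exact ⟨AddEquiv.toMultiplicativeRight e⟩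

end Groth.Agent.Tors73
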