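import Groth.Agent.Tors73.Points
import Groth.Agent.AbDeg57.FibreBound

/-!
Divisibility of the group of points and the p-rank of an abelian variety.
-/

set_option autoImplicit false
set_option backward.isDefEq.respectTransparency.types false
universe u

open CategoryTheory CategoryTheory.Limits MonoidalCategory CartesianMonoidalCategory MonObj AlgebraicGeometry

noncomputable section

namespace Groth.Agent.Tors73

/-- In a divisible commutative group torsion counts are multiplicative. -/
theorem card_ker_pow_mul {M : Type*} [CommGroup M] (a b : ℕ) (hdiv : ∀ y : M, ∃ x, x ^ a = y) :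
    Nat.card (powMonoidHom (a * b) : M →* M).ker =
      Nat.card (powMonoidHom a : M →* M).ker * Nat.card (powMonoidHom b : M →* M).ker := by
  let φ : (powMonoidHom (a * b) : M →* M).ker →* (powMonoidHom b : M →* M).ker :=
    { toFun := fun x => ⟨x.1 ^ a, by
        show (x.1 ^ a) ^ b = 1
        rw [← pow_mul]; exact x.2⟩
      map_one' := Subtype.ext (one_pow a)
      map_mul' := fun x y => Subtype.ext (mul_pow _ _ a) }
  have hsurj : φ.range = ⊤ := by
    refine MonoidHom.range_eq_top.2 fun y => ?_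
    obtain ⟨x, hx⟩ := hdiv y.1
    refine ⟨⟨x, ?_⟩, Subtype.ext hx⟩
    show x ^ (a * b) = 1
    rw [pow_mul, hx]; exact y.2
  have e : φ.ker ≃ (powMonoidHom a : M →* M).ker :=
    { toFun := fun x => ⟨x.1.1, congrArg Subtype.val x.2⟩
      invFun := fun x => ⟨⟨x.1, by
        show x.1 ^ (a * b) = 1
        rw [pow_mul, show x.1 ^ a = 1 from x.2, one_pow]⟩, Subtype.ext x.2⟩
      left_inv := fun _ => rfl
      right_inv := fun _ => rfl }
  have h := φ.ker.card_mul_index
  rw [Subgroup.index_ker, hsurj, Subgroup.card_top, Nat.card_congr e] at h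
  exact h.symm

variable {K : Type u} [Field K] [IsAlgClosed K] (A : Over (Spec (CommRingCat.of K))) [GrpObj A] [IsCommMonObj A]
  [IsProper A.hom] [GeometricallyIntegral A.hom]

local notation "P₀" => 𝟙_ (Over (Spec (CommRingCat.of K)))

omit [IsCommMonObj A] in
theorem divisible (n : ℕ) (hn : 1 ≤ n) (a : P₀ ⟶ A) : ∃ b : P₀ ⟶ A, b ^ n = a := by
  let f := (𝟙 A ^ n : A ⟶ A).left
  have : Surjective f := AbDeg57.surjective_pow n hn
  have : JacobsonSpace A.left := LocallyOfFiniteType.jacobsonSpace A.hom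
  let q := a.left (IsLocalRing.closedPoint K)
  have hq : IsClosed ({q} : Set A.left) := ((pointEquivClosedPoint A.hom) ⟨a.left, Over.w a⟩).2
  obtain ⟨z, hz, hzc⟩ := nonempty_inter_closedPoints
    (Set.Nonempty.preimage (Set.singleton_nonempty q) f.surjective) (hq.preimage f.continuous).isLocallyClosed
  let b : P₀ ⟶ A := Over.homMk (pointOfClosedPoint A.hom z hzc) (pointOfClosedPoint_comp A.hom z hzc)
  refine ⟨b, ?_⟩
  have hb : b ≫ (𝟙 A ^ n : A ⟶ A) = a := by
    refine Over.OverMorphism.ext (AlgebraicGeometry.ext_of_apply_closedPoint_eq A.hom (Over.w _) (Over.w a) ?_)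
    rw [Over.comp_left, Scheme.Hom.comp_apply]
    show f (pointOfClosedPoint A.hom z hzc _) = q
    rw [pointOfClosedPoint_apply]
    exact hz
  rwa [MonObj.comp_pow, Category.comp_id] at hb

theorem card_torsPts_mul (a b : ℕ) (ha : 1 ≤ a) :
    Nat.card (AbDual.torsPts A (a * b) P₀) =
      Nat.card (AbDual.torsPts A a P₀) * Nat.card (AbDual.torsPts A b P₀) :=
  card_ker_pow_mul a b (divisible A a ha)

theorem exists_card_torsPts_prime (g : ℕ) (hg : topologicalKrullDim A.left = g) (p : ℕ) [Fact p.Prime] [CharP K p] :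
    ∃ i, i ≤ g ∧ Nat.card (AbDual.torsPts A p P₀) = p ^ i := by
  have hp := (Fact.out : p.Prime)
  let S : Set A.left := {a : A.left | (𝟙 A ^ p).left a = η[A].left (IsLocalRing.closedPoint K)}
  have hle : S.encard ≤ (p ^ g : ℕ) := AbDeg57.encard_fibre_pow_le_of_isAlgClosed p A g hg
  have hfin : S.Finite := Set.finite_of_encard_le_coe hle
  have := hfin.to_subtype
  let F : AbDual.torsPts A p P₀ → S := fun x => ⟨(x : P₀ ⟶ A).left (IsLocalRing.closedPoint K), by
    show (𝟙 A ^ p : A ⟶ A).left _ = _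
    rw [← Scheme.Hom.comp_apply, ← Over.comp_left]
    rw [MonObj.comp_pow, Category.comp_id, show (x : P₀ ⟶ A) ^ p = 1 from x.2, MonObj.one_eq_one]⟩
  have hF : Function.Injective F := fun x y h => Subtype.ext (Over.OverMorphism.ext
    (AlgebraicGeometry.ext_of_apply_closedPoint_eq A.hom (Over.w _) (Over.w _) (congrArg Subtype.val h)))
  have : Finite (AbDual.torsPts A p P₀) := Finite.of_injective F hF
  have hpg : IsPGroup p (AbDual.torsPts A p P₀) := fun x => ⟨1, Subtype.ext (by
    rw [pow_one, SubmonoidClass.coe_pow]; exact x.2)⟩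
  obtain ⟨i, hi⟩ := hpg.exists_card_eq
  refine ⟨i, ?_, hi⟩
  have h1 := Nat.card_le_card_of_injective F hF
  rw [hi, Nat.card_coe_set_eq] at h1
  have h2 : S.ncard ≤ p ^ g := by
    rw [← hfin.cast_ncard_eq] at hle
    exact_mod_cast hle
  exact (Nat.pow_le_pow_iff_right hp.one_lt).1 (h1.trans h2)

theorem card_torsPts_pow {p i : ℕ} (hp : 1 ≤ p) (h : Nat.card (AbDual.torsPts A p P₀) = p ^ i) :
    ∀ m, Nat.card (AbDual.torsPts A (p ^ m) P₀) = (p ^ m) ^ i := by
  intro m
  induction m with
  | zero =>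
    rw [pow_zero, one_pow]
    have : Subsingleton (AbDual.torsPts A 1 P₀) :=
      ⟨fun x y => Subtype.ext (((pow_one _).symm.trans x.2).trans ((pow_one _).symm.trans y.2).symm)⟩
    exact Nat.card_eq_one_iff_unique.2 ⟨this, ⟨1⟩⟩
  | succ m ih => rw [pow_succ, card_torsPts_mul A _ _ (Nat.one_le_pow _ _ hp), ih, h, mul_pow]

theorem exists_pRank (g : ℕ) (hg : topologicalKrullDim A.left = g) (p : ℕ) [Fact p.Prime] [CharP K p] :
    ∃ i, i ≤ g ∧ ∀ m, Nonempty (AbDual.torsPts A (p ^ m) P₀ ≃* Multiplicative (Fin i → ZMod (p ^ m))) := by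
  have hp := (Fact.out : p.Prime)
  obtain ⟨i, hi, hcard⟩ := exists_card_torsPts_prime A g hg p
  have hall := card_torsPts_pow A hp.one_le hcard
  refine ⟨i, hi, fun m => ?_⟩
  let G := Additive (AbDual.torsPts A (p ^ m) P₀)
  have hn0 : p ^ m ≠ 0 := pow_ne_zero _ hp.ne_zero
  have : Finite (AbDual.torsPts A (p ^ m) P₀) :=
    Nat.finite_of_card_ne_zero (by rw [hall]; exact pow_ne_zero _ hn0)
  have hfp : Finite (AbDual.torsPts A p P₀) :=
    Nat.finite_of_card_ne_zero (by rw [hcard]; exact pow_ne_zero _ hp.ne_zero)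
  have hexp : ∀ x : G, p ^ m • x = 0 := fun x => by
    apply Additive.toMul.injective
    exact Subtype.ext ((AbDual.mem_torsPts A x.toMul.1).1 x.toMul.2)
  obtain ⟨e⟩ := addEquiv_of_card_torsion (G := G) hn0 hexp ((Nat.card_congr Additive.toMul).trans (hall m))
    (fun q hq => by
      by_cases hqp : q = p
      · subst hqp
        rw [← hcard]
        refine Nat.card_le_card_of_injective (fun x : {x : G // q • x = 0} =>
          (⟨x.1.toMul.1, (AbDual.mem_torsPts A _).2 (congrArg (fun y : G => y.toMul.1) x.2)⟩ :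
            AbDual.torsPts A q P₀)) fun x y h => Subtype.ext (Additive.toMul.injective (Subtype.ext ?_))
        exact congrArg (fun z : AbDual.torsPts A q P₀ => (z : P₀ ⟶ A)) h
      · have hc : Nat.Coprime q (p ^ m) := Nat.Coprime.pow_right m ((Nat.coprime_primes hq hp).2 hqp)
        have h1 : ∀ x : {x : G // q • x = 0}, x.1 = 0 := fun x => by
          have h2 := Nat.dvd_gcd (addOrderOf_dvd_iff_nsmul_eq_zero.2 x.2) (addOrderOf_dvd_iff_nsmul_eq_zero.2 (hexp x.1))
          rw [hc.gcd_eq_one, Nat.dvd_one, AddMonoid.addOrderOf_eq_one_iff] at h2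
          exact h2
        have : Subsingleton {x : G // q • x = 0} := ⟨fun x y => Subtype.ext ((h1 x).trans (h1 y).symm)⟩
        exact (Finite.card_le_one_iff_subsingleton.2 this).trans (Nat.one_le_pow _ _ hq.pos))
  exact ⟨AddEquiv.toMultiplicativeRight e⟩

theorem card_torsPts_dvd_and_iff (g : ℕ) (hg : topologicalKrullDim A.left = g) (hg0 : 0 < g) (n : ℕ) (hn : 0 < n) :
    Nat.card (AbDual.torsPts A n P₀) ∣ n ^ (2 * g) ∧
      (Nat.card (AbDual.torsPts A n P₀) = n ^ (2 * g) ↔ (n : K) ≠ 0) := by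
  by_cases hK : (n : K) = 0
  · obtain ⟨p, _⟩ := CharP.exists K
    have hpn : p ∣ n := (CharP.cast_eq_zero_iff K p n).1 hK
    have hp : p.Prime := (CharP.char_is_prime_or_zero K p).resolve_right (by rintro rfl; simp at hpn; omega)
    have : Fact p.Prime := ⟨hp⟩
    obtain ⟨i, hi, hcard⟩ := exists_card_torsPts_prime A g hg p
    obtain ⟨a, m, hm, rfl⟩ := Nat.exists_eq_pow_mul_and_not_dvd hn.ne' p hp.ne_one
    have hmK : (m : K) ≠ 0 := fun h => hm ((CharP.cast_eq_zero_iff K p m).1 h)
    rw [card_torsPts_mul A _ _ (Nat.one_le_pow _ _ hp.pos), card_torsPts_pow A hp.one_le hcard,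
      card_torsPts A g hg m hmK]
    have ha : a ≠ 0 := by
      rintro rfl
      exact hm (by simpa using hpn)
    refine ⟨?_, ?_⟩
    · rw [mul_pow]
      exact mul_dvd_mul_right (pow_dvd_pow _ (by omega)) _
    · refine iff_of_false (fun h => ?_) (not_not.2 hK)
      rw [mul_pow] at h
      have hlt : (p ^ a) ^ i < (p ^ a) ^ (2 * g) :=
        Nat.pow_lt_pow_right (Nat.one_lt_pow ha hp.one_lt) (by omega)
      exact hlt.ne (Nat.eq_of_mul_eq_mul_right (pow_pos (Nat.pos_of_ne_zero fun h0 => hmK (by rw [h0, Nat.cast_zero])) _) h)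
  · exact ⟨(card_torsPts A g hg n hK).dvd, iff_of_true (card_torsPts A g hg n hK) hK⟩

end Groth.Agent.Tors73
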