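import Mathlib

/-!
A finite abelian group of exponent dividing `n`, of order `n ^ r`, whose `p`-torsion has at most `p ^ r` elements
for every prime `p`, is `(ℤ/n)^r`.
-/

namespace Groth.Agent.Tors73

/-- A finite family in which each class has at most `r` members has a colouring injective on each class. -/
theorem exists_slot {ι : Type*} [Finite ι] {β : Type*} (p : ι → β) (r : ℕ)
    (h : ∀ i, Nat.card {j : ι // p j = p i} ≤ r) : ∃ f : ι → Fin r, ∀ i j, p i = p j → f i = f j → i = j := by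
  classical
  have := Fintype.ofFinite ι
  have hemb : ∀ b : β, Nonempty ({j : ι // p j = b} ↪ Fin r) := by
    intro b
    by_cases hb : ∃ i, p i = b
    · obtain ⟨i, rfl⟩ := hb
      refine Function.Embedding.nonempty_of_card_le ?_
      have h1 := h i
      rw [Nat.card_eq_fintype_card] at h1
      simpa using h1
    · push Not at hb
      exact ⟨⟨fun j => absurd j.2 (hb j.1), fun j => absurd j.2 (hb j.1)⟩⟩
  refine ⟨fun i => (hemb (p i)).some ⟨i, rfl⟩, fun i j hp hf => ?_⟩
  have key : ∀ (a b : β) (e : a = b) (x : {l : ι // p l = a}) (y : {l : ι // p l = b}),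
      (hemb a).some x = (hemb b).some y → x.1 = y.1 := by
    rintro a b rfl x y h
    exact congrArg Subtype.val ((hemb a).some.injective h)
  exact key _ _ hp ⟨i, rfl⟩ ⟨j, rfl⟩ hf

theorem addEquiv_of_card_torsion {G : Type*} [AddCommGroup G] [Finite G] {n r : ℕ} (hn : n ≠ 0)
    (hexp : ∀ x : G, n • x = 0) (hcard : Nat.card G = n ^ r)
    (hp : ∀ p : ℕ, p.Prime → Nat.card {x : G // p • x = 0} ≤ p ^ r) : Nonempty (G ≃+ (Fin r → ZMod n)) := by
  classical
  have : NeZero n := ⟨hn⟩
  obtain ⟨ι, hι, p, hpr, e, ⟨φ⟩⟩ := AddCommGroup.equiv_directSum_zmod_of_finite G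
  let ψ : G ≃+ ((i : ι) → ZMod (p i ^ e i)) := φ.trans (DirectSum.addEquivProd (fun i => ZMod (p i ^ e i)))
  -- indices with trivial factor are harmless: count the others
  let J := {i : ι // e i ≠ 0}
  have hcount : ∀ i : J, Nat.card {j : J // p j.1 = p i.1} ≤ r := by
    intro i
    set q := p i.1
    have hq : q.Prime := hpr i.1
    let S := {j : J // p j.1 = q}
    let emb : (S → Fin q) → {x : G // q • x = 0} := fun c =>
      ⟨ψ.symm fun l => if h : e l ≠ 0 ∧ p l = q then ((c ⟨⟨l, h.1⟩, h.2⟩ : ℕ) * p l ^ (e l - 1) : ℕ) else 0, by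
        apply ψ.injective
        rw [map_nsmul, ψ.apply_symm_apply, map_zero]
        funext l
        rw [Pi.smul_apply, Pi.zero_apply]
        by_cases h : e l ≠ 0 ∧ p l = q
        · rw [dif_pos h, nsmul_eq_mul, ← Nat.cast_mul, ZMod.natCast_eq_zero_iff]
          refine ⟨(c ⟨⟨l, h.1⟩, h.2⟩ : ℕ), ?_⟩
          have hpow : p l * p l ^ (e l - 1) = p l ^ e l := by
            rw [← pow_succ', Nat.sub_add_cancel (Nat.one_le_iff_ne_zero.2 h.1)]
          calc q * ((c ⟨⟨l, h.1⟩, h.2⟩ : ℕ) * p l ^ (e l - 1))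
              = (c ⟨⟨l, h.1⟩, h.2⟩ : ℕ) * (q * p l ^ (e l - 1)) := by ring
            _ = (c ⟨⟨l, h.1⟩, h.2⟩ : ℕ) * (p l * p l ^ (e l - 1)) :=
              congrArg (fun t => (c ⟨⟨l, h.1⟩, h.2⟩ : ℕ) * (t * p l ^ (e l - 1))) h.2.symm
            _ = p l ^ e l * (c ⟨⟨l, h.1⟩, h.2⟩ : ℕ) := by rw [hpow, mul_comm]
        · rw [dif_neg h, smul_zero]⟩
    have hinj : Function.Injective emb := by
      intro c c' hc
      funext s
      have h1 := congrArg (fun x : {x : G // q • x = 0} => ψ x.1 s.1.1) hc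
      simp only [emb, AddEquiv.apply_symm_apply, dif_pos (show e s.1.1 ≠ 0 ∧ p s.1.1 = q from ⟨s.1.2, s.2⟩)] at h1
      obtain ⟨m, hm⟩ := Nat.exists_eq_succ_of_ne_zero s.1.2
      have hlt : ∀ d : Fin q, (d : ℕ) * p s.1.1 ^ (e s.1.1 - 1) < p s.1.1 ^ e s.1.1 := by
        intro d
        rw [hm, Nat.succ_sub_one, pow_succ, mul_comm (p s.1.1 ^ m)]
        exact Nat.mul_lt_mul_of_pos_right (d.2.trans_eq s.2.symm) (pow_pos (hpr _).pos _)
      rw [ZMod.natCast_eq_natCast_iff', Nat.mod_eq_of_lt (hlt _), Nat.mod_eq_of_lt (hlt _)] at h1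
      exact Fin.ext (mul_right_cancel₀ (pow_ne_zero _ (hpr _).ne_zero) h1)
    have h2 := Nat.card_le_card_of_injective emb hinj
    rw [Nat.card_fun, Nat.card_eq_fintype_card (α := Fin q), Fintype.card_fin] at h2
    exact (Nat.pow_le_pow_iff_right hq.one_lt).1 (h2.trans (hp q hq))
  obtain ⟨f, hf⟩ := exists_slot (fun i : J => p i.1) r hcount
  have hdvd : ∀ i : ι, p i ^ e i ∣ n := by
    intro i
    have h := congrArg (fun x => ψ x i) (hexp (ψ.symm (Pi.single i 1)))
    simp only [map_nsmul, AddEquiv.apply_symm_apply, Pi.smul_apply, Pi.single_eq_same, map_zero, Pi.zero_apply,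
      nsmul_eq_mul, mul_one] at h
    exact (ZMod.natCast_eq_zero_iff _ _).1 h
  let Φ : (Fin r → ZMod n) →+ ((i : ι) → ZMod (p i ^ e i)) :=
    { toFun := fun x i => if h : e i ≠ 0 then ZMod.castHom (hdvd i) _ (x (f ⟨i, h⟩)) else 0
      map_zero' := by funext i; split <;> simp
      map_add' := fun x y => by funext i; simp only [Pi.add_apply]; split <;> simp [ZMod.cast_add (hdvd i)] }
  have hsurj : Function.Surjective Φ := by
    intro y
    have key : ∀ s : Fin r, ∃ z : ℕ, ∀ i : J, f i = s → ((z : ℕ) : ZMod (p i.1 ^ e i.1)) = y i.1 := by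
      intro s
      have hne : ∀ i : J, NeZero (p i.1 ^ e i.1) := fun i => ⟨pow_ne_zero _ (hpr _).ne_zero⟩
      obtain ⟨z, hz⟩ := Nat.chineseRemainderOfFinset (fun i : J => (y i.1).val) (fun i : J => p i.1 ^ e i.1)
        (Finset.univ.filter fun i : J => f i = s) (fun i _ => pow_ne_zero _ (hpr _).ne_zero) (fun i hi j hj hij => by
          simp only [Finset.coe_filter, Finset.mem_univ, true_and, Set.mem_ofPred_eq] at hi hj
          exact Nat.Coprime.pow _ _ ((Nat.coprime_primes (hpr _) (hpr _)).2 fun hpp =>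
            hij (hf i j hpp (hi.trans hj.symm))))
      refine ⟨z, fun i hi => ?_⟩
      have := hne i
      rw [← ZMod.natCast_zmod_val (y i.1), ZMod.natCast_eq_natCast_iff]
      exact hz i (by simp [hi])
    choose z hz using key
    refine ⟨fun s => (z s : ZMod n), ?_⟩
    funext i
    show (if h : e i ≠ 0 then ZMod.castHom (hdvd i) _ ((z (f ⟨i, h⟩) : ℕ) : ZMod n) else 0) = y i
    split
    · rename_i h
      rw [map_natCast]
      exact hz _ ⟨i, h⟩ rfl
    · rename_i h
      push Not at h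
      have : Subsingleton (ZMod (p i ^ e i)) := by rw [h, pow_zero]; exact (inferInstance : Subsingleton (Fin 1))
      exact Subsingleton.elim _ _
  have hc : Nat.card (Fin r → ZMod n) = Nat.card ((i : ι) → ZMod (p i ^ e i)) := by
    rw [← Nat.card_congr ψ.toEquiv, hcard, Nat.card_fun, Nat.card_eq_fintype_card (α := Fin r),
      Fintype.card_fin, Nat.card_zmod]
  have : ∀ i, NeZero (p i ^ e i) := fun i => ⟨pow_ne_zero _ (hpr _).ne_zero⟩
  have hbij : Function.Bijective Φ := (Nat.bijective_iff_surjective_and_card Φ).2 ⟨hsurj, hc⟩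
  exact ⟨ψ.trans (AddEquiv.ofBijective Φ hbij).symm⟩

end Groth.Agent.Tors73
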